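import Mathlib
import Groth.Prelude.Def_Hensel
import Groth.Agent.H3.HensUnion
import Groth.Agent.H3.HensLocal
import Groth.Agent.H3.HensIso
import Groth.Agent.H78.MinPrimeFlat

/-!
# The map from the henselization to the completion of a Noetherian local ring

It is faithfully flat and local; consequently contraction maps the minimal primes of the
completion onto those of the henselization.
-/

set_option autoImplicit false
set_option linter.style.haveILetI false
universe u

namespace Groth.Agent.H78.HensCompl

open IsLocalRing Groth.Agent.H3 Groth.Agent.H3.UnionEtale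

variable (A S : Type u) [CommRing A] [IsLocalRing A] [IsNoetherianRing A] [CommRing S]
  [IsLocalRing S] [Algebra A S] [IsLocalHom (algebraMap A S)]

/-- the comparison map from a henselization to the completion is flat and local -/
theorem flat_and_isLocalHom [Hensel.IsHenselization A S]
    (ψ : S →+* AdicCompletion (maximalIdeal A) A)
    (hψ : ψ.comp (algebraMap A S) = algebraMap A (AdicCompletion (maximalIdeal A) A)) :
    ψ.Flat ∧ IsLocalHom ψ := by
  have hH : Hensel.IsHenselization A S := inferInstance
  obtain ⟨hU, hff⟩ := Groth.Agent.H3.HensUnion.package (Or.inl hH)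
  letI : Algebra S (AdicCompletion (maximalIdeal A) A) := ψ.toAlgebra
  haveI : IsScalarTower A S (AdicCompletion (maximalIdeal A) A) :=
    IsScalarTower.of_algebraMap_eq fun x => by
      rw [← hψ]; rfl
  haveI : Module.Flat S (AdicCompletion (maximalIdeal A) A) :=
    hU.flat_of_flat (AdicCompletion (maximalIdeal A) A)
  refine ⟨‹Module.Flat S (AdicCompletion (maximalIdeal A) A)›, ?_⟩
  have hPS := Groth.Agent.H3.HensIso.isPairHenselization_of_isHenselization hH
  have hmS : maximalIdeal S = (maximalIdeal A).map (algebraMap A S) :=
    Groth.Agent.H3.HensLocal.maximalIdeal_eq hPS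
  refine ((IsLocalRing.local_hom_TFAE ψ).out 0 2).mpr ?_
  rw [hmS, Ideal.map_map, hψ, ← AdicCompletion.maximalIdeal_eq_map]

/-- **S9240.** -/
theorem main [Hensel.IsHenselization A S]
    (ψ : S →+* AdicCompletion (maximalIdeal A) A)
    (hψ : ψ.comp (algebraMap A S) = algebraMap A (AdicCompletion (maximalIdeal A) A)) :
    Set.MapsTo (Ideal.comap ψ) (minimalPrimes (AdicCompletion (maximalIdeal A) A))
        (minimalPrimes S) ∧
      Set.SurjOn (Ideal.comap ψ) (minimalPrimes (AdicCompletion (maximalIdeal A) A))
        (minimalPrimes S) := by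
  obtain ⟨hflat, hloc⟩ := flat_and_isLocalHom A S ψ hψ
  refine MinPrimeFlat.mapsTo_surjOn_comap_minimalPrimes ψ hflat ?_
  intro p hp
  letI : Algebra S (AdicCompletion (maximalIdeal A) A) := ψ.toAlgebra
  haveI : Module.Flat S (AdicCompletion (maximalIdeal A) A) := hflat
  haveI : IsLocalHom (algebraMap S (AdicCompletion (maximalIdeal A) A)) := hloc
  haveI : Module.FaithfullyFlat S (AdicCompletion (maximalIdeal A) A) :=
    Module.FaithfullyFlat.of_flat_of_isLocalHom
  obtain ⟨P, hP, hPp⟩ := Ideal.exists_isPrime_liesOver_of_faithfullyFlat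
    (B := AdicCompletion (maximalIdeal A) A) p
  exact ⟨P, hP, hPp.over.symm⟩

end Groth.Agent.H78.HensCompl
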